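import Cfsg.Agent.ThreeTransp.Perp

/-!
# The Cauchy-Schwarz bound for regular subsets of a rank 3 class
-/

set_option autoImplicit false
set_option linter.unusedSectionVars false

namespace Cfsg.Agent.F5

open Finset Cfsg.Agent.ThreeTransp

variable {G : Type*} [Group G]

/-- The numerical data of a rank three class `D`. -/
structure SRG (D : Set G) (v k l m : ℕ) : Prop where
  card : D.ncard = v
  val : ∀ d ∈ D, (perp D d).ncard = k
  lam : ∀ d ∈ D, ∀ e ∈ perp D d, (perp D d ∩ perp D e).ncard = l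
  mu : ∀ d ∈ D, ∀ e ∈ D, ¬ Commute d e → (perp D d ∩ perp D e).ncard = m

theorem SRG.bound [Finite G] {D : Set G} {v k l m : ℕ} (h : SRG D v k l m) {E : Set G} (hE : E ⊆ D) (hne : E.Nonempty)
    {t : ℕ} (ht : ∀ e ∈ E, (perp D e ∩ E).ncard = t) :
    (E.ncard : ℤ) * ((k : ℤ) - t) ^ 2 ≤
      ((v : ℤ) - E.ncard) * ((k : ℤ) + t * l + ((E.ncard : ℤ) - 1 - t) * m - t ^ 2) := by
  classical
  have : Fintype G := Fintype.ofFinite G
  let Df : Finset G := D.toFinset
  let Ef : Finset G := E.toFinset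
  have hmD : ∀ x, x ∈ Df ↔ x ∈ D := fun x => by simp [Df]
  have hmE : ∀ x, x ∈ Ef ↔ x ∈ E := fun x => by simp [Ef]
  have hEf : Ef ⊆ Df := fun x hx => (hmD x).2 (hE ((hmE x).1 hx))
  have hcE : E.ncard = Ef.card := Set.ncard_eq_toFinset_card' E
  have hcD : v = Df.card := by rw [← h.card]; exact Set.ncard_eq_toFinset_card' D
  -- the adjacency matrix
  let A : G → G → ℤ := fun x y => if x ∈ perp D y then 1 else 0
  have hsymm : ∀ x ∈ D, ∀ y ∈ D, A x y = A y x := by
    intro x hx y hy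
    have : x ∈ perp D y ↔ y ∈ perp D x := by
      constructor
      · rintro ⟨_, h1, h2⟩; exact ⟨hy, h1.symm, h2.symm⟩
      · rintro ⟨_, h1, h2⟩; exact ⟨hx, h1.symm, h2.symm⟩
    simp only [A, this]
  have hcount : ∀ S : Set G, S ⊆ D → ∀ y, ∑ x ∈ S.toFinset, A x y = ((perp D y ∩ S).ncard : ℤ) := by
    intro S hS y
    rw [Set.ncard_eq_toFinset_card', Finset.sum_boole]
    congr 2
    ext x
    simp [Set.mem_inter_iff, and_comm]
  have hk : ∀ y ∈ D, ∑ x ∈ Df, A x y = k := by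
    intro y hy
    rw [hcount D subset_rfl y, Set.inter_eq_left.2 (fun x hx => hx.1), h.val y hy]
  have hcommon : ∀ y ∈ D, ∀ z ∈ D, ∑ x ∈ Df, A x y * A x z = ((perp D y ∩ perp D z).ncard : ℤ) := by
    intro y hy z hz
    rw [Set.ncard_eq_toFinset_card']
    have : ∀ x, A x y * A x z = if x ∈ perp D y ∧ x ∈ perp D z then 1 else 0 := by
      intro x
      by_cases h1 : x ∈ perp D y <;> by_cases h2 : x ∈ perp D z <;> simp [A, h1, h2]
    rw [Finset.sum_congr rfl fun x _ => this x, Finset.sum_boole]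
    congr 2
    ext x
    simp only [mem_filter, Set.mem_toFinset, Set.mem_inter_iff, hmD]
    exact ⟨fun hx => hx.2, fun hx => ⟨hx.1.1, hx⟩⟩
  let a : G → ℤ := fun c => ∑ e ∈ Ef, A c e
  -- first moment
  have ha1 : ∑ c ∈ Df, a c = Ef.card * k := by
    rw [Finset.sum_comm, Finset.sum_congr rfl fun e he => hk e (hE ((hmE e).1 he)), Finset.sum_const, nsmul_eq_mul]
  have haE : ∀ c ∈ E, a c = t := by
    intro c hc
    have h1 : a c = ∑ e ∈ Ef, A e c := Finset.sum_congr rfl fun e he => hsymm c (hE hc) e (hE ((hmE e).1 he))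
    rw [h1, hcount E hE c, ht c hc]
  have hself : ∀ y ∈ D, (perp D y ∩ perp D y).ncard = k := fun y hy => by rw [Set.inter_self, h.val y hy]
  -- second moment
  have hrow : ∀ e ∈ E, ∑ e' ∈ Ef, ((perp D e ∩ perp D e').ncard : ℤ) =
      k + t * l + ((E.ncard : ℤ) - 1 - t) * m := by
    intro e he
    have heD := hE he
    have hform : ∀ e' ∈ Ef, ((perp D e ∩ perp D e').ncard : ℤ) =
        (if e' = e then (k : ℤ) - m else 0) + (A e' e) * ((l : ℤ) - m) + m := by
      intro e' he'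
      have he'D := hE ((hmE e').1 he')
      by_cases h1 : e' = e
      · subst h1
        have h2 : A e' e' = 0 := by
          have : e' ∉ perp D e' := fun h => h.2.1 rfl
          simp [A, this]
        rw [hself e' he'D, h2]; simp
      · by_cases h2 : e' ∈ perp D e
        · have h3 : A e' e = 1 := by simp [A, h2]
          rw [h.lam e heD e' h2, h3]; simp [h1]
        · have h3 : A e' e = 0 := by simp [A, h2]
          have h4 : ¬ Commute e e' := fun hc => h2 ⟨he'D, h1, hc⟩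
          rw [h.mu e heD e' he'D h4, h3]; simp [h1]
    rw [Finset.sum_congr rfl hform, Finset.sum_add_distrib, Finset.sum_add_distrib, ← Finset.sum_mul,
      Finset.sum_ite_eq' Ef e, if_pos ((hmE e).2 he), Finset.sum_const, nsmul_eq_mul, hcE,
      hcount E hE e, ht e he]
    ring
  have ha2 : ∑ c ∈ Df, a c ^ 2 = Ef.card * (k + t * l + ((E.ncard : ℤ) - 1 - t) * m) := by
    have h1 : ∀ c ∈ Df, a c ^ 2 = ∑ e ∈ Ef, ∑ e' ∈ Ef, A c e * A c e' := by
      intro c _
      rw [sq, Finset.sum_mul_sum]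
    rw [Finset.sum_congr rfl h1, Finset.sum_comm]
    have h2 : ∀ e ∈ Ef, ∑ c ∈ Df, ∑ e' ∈ Ef, A c e * A c e' = k + t * l + ((E.ncard : ℤ) - 1 - t) * m := by
      intro e he
      rw [Finset.sum_comm, ← hrow e ((hmE e).1 he)]
      exact Finset.sum_congr rfl fun e' he' => hcommon e (hE ((hmE e).1 he)) e' (hE ((hmE e').1 he'))
    rw [Finset.sum_congr rfl h2, Finset.sum_const, nsmul_eq_mul]
  -- outside of E
  have hs1 := Finset.sum_sdiff (f := a) hEf
  have hs2 := Finset.sum_sdiff (f := fun c => a c ^ 2) hEf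
  have hE1 : ∑ c ∈ Ef, a c = Ef.card * t := by
    rw [Finset.sum_congr rfl fun c hc => haE c ((hmE c).1 hc), Finset.sum_const, nsmul_eq_mul]
  have hE2 : ∑ c ∈ Ef, a c ^ 2 = Ef.card * (t : ℤ) ^ 2 := by
    rw [Finset.sum_congr rfl fun c hc => by rw [haE c ((hmE c).1 hc)], Finset.sum_const, nsmul_eq_mul]
  have hcs := sq_sum_le_card_mul_sum_sq (s := Df \ Ef) (f := a)
  have hcard : ((Df \ Ef).card : ℤ) = (v : ℤ) - E.ncard := by
    rw [Finset.card_sdiff_of_subset hEf, hcD, hcE, Nat.cast_sub (Finset.card_le_card hEf)]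
  have e1 : ∑ c ∈ Df \ Ef, a c = (E.ncard : ℤ) * ((k : ℤ) - t) := by
    rw [hcE]; linear_combination hs1 + ha1 - hE1
  have e2 : ∑ c ∈ Df \ Ef, a c ^ 2 = (E.ncard : ℤ) * ((k : ℤ) + t * l + ((E.ncard : ℤ) - 1 - t) * m - t ^ 2) := by
    rw [hcE] at *
    linear_combination hs2 + ha2 - hE2
  rw [e1, e2, hcard] at hcs
  have hpos : (0 : ℤ) < E.ncard := by
    have := (Set.ncard_pos (Set.toFinite E)).2 hne
    exact_mod_cast this
  have : (E.ncard : ℤ) * ((E.ncard : ℤ) * ((k : ℤ) - t) ^ 2) ≤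
      (E.ncard : ℤ) * (((v : ℤ) - E.ncard) * ((k : ℤ) + t * l + ((E.ncard : ℤ) - 1 - t) * m - t ^ 2)) := by
    calc (E.ncard : ℤ) * ((E.ncard : ℤ) * ((k : ℤ) - t) ^ 2) = ((E.ncard : ℤ) * ((k : ℤ) - t)) ^ 2 := by ring
      _ ≤ _ := hcs
      _ = _ := by ring
  exact le_of_mul_le_mul_left this hpos

end Cfsg.Agent.F5
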